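import Cfsg.Agent.Omega.NO3S.TwoOne.TI.Main
import Cfsg.Agent.Omega.NO3S.TwoOne.Alpha
import Cfsg.Agent.Omega.NO3S.TwoOne.Inst

/-!
# NO-3S, `q = 2`, `n = 1`, no `λ`-transvections: `|A| ≥ 4`, `D_x = I`, no plane is impossible (helper541's text #18395)

* `One.alpha_m1` : THEOREM ALPHA of #17145 (helper881) under (M1): `C_{W_x}(K_x) = ⟨x⟩`; `One.m1_of_dd` : (M1) holds if
  `D_x = I`;
* `One.nu_comm_of` : (2.1): `[N ∩ W_p, N ∩ W_r] ≤ ⟨u⟩`, `N = ⟨z^{C(u)}⟩`, if `V ≤ O₂(C_G(u))`;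
* `One.in_alpha` : (1) of #18395; `One.gen`, `One.ti` : the record `TI`;
* `One.np_dd_false` : `NT V`, `NP V z`, `D_z = I`, `|A| ≥ 4` is impossible.
-/

set_option autoImplicit false
set_option linter.unusedSectionVars false

namespace Cfsg.Agent.Omega.NO3S.TwoOne

open Subgroup Cfsg Cfsg.Agent.ZN Cfsg.Agent.MinSimple.Geo Cfsg.Agent.Omega.CaseL
open Cfsg.Agent.Omega.NO3S.Fit
open Cfsg.Agent.ZN.Block (conj_mem_of_normalizer conj_mem_of_normalizer' le_normalizer_of_forall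
  mem_normalizer_of)
open scoped commutatorElement

universe u

variable {G : Type u} [Group G]

namespace One

section grp

variable {T V : Subgroup G} {z : G} {p q r u : G}

/-- (M1) if `D_z = I` -/
theorem m1_of_dd [Finite G] (h : One T V z) (hN : NT V) (hD : dd V z ≤ ii V) {w : G} (hw : w ∈ m0 V z) :
    w = 1 ∨ w = z := h.m0_ii hw (hD (h.m0_le_dd hN hw))

/-- **THEOREM ALPHA** under (M1) -/
theorem alpha_m1 [Finite G] (h : One T V z) (hN : NT V) (hM : ∀ w ∈ m0 V z, w = 1 ∨ w = z) (hu : u ∈ ii V)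
    (huV : u ∉ V) : V ≤ o2 (centralizer ({u} : Set G)) := by
  classical
  have hz := h.ln.z_mem
  have hz1 := h.ln.z_ne
  set J := centralizer ({u} : Set G) with hJ
  set Q := o2 J with hQdef
  have hQn : J ≤ normalizer (Q : Set G) := le_normalizer_o2 _
  have huu : u * u = 1 := h.sq hz hz1 u (hu z hz hz1)
  by_contra hVQ
  -- no point of `V` is in `Q`
  have hVQ' : ∀ v ∈ V, v ∈ Q → v = 1 := by
    intro v hv hvQ
    by_contra hv1
    exact hVQ (h.V_le_of_mem hu huV hQn hv hv1 hvQ)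
  -- `u ∈ Q`
  have huQ : u ∈ Q := by
    have h1 : IsPGroup 2 (zpowers u) := isPGroup_zpowers huu
    have h2 : zpowers u ≤ J := by
      rw [Subgroup.zpowers_le, hJ, mem_centralizer_singleton_iff]
    refine le_o2 h2 h1 ?_ (mem_zpowers u)
    refine le_normalizer_of_forall fun c hc x hx => ?_
    rw [conj_zpowers (z := u) hc hx]
    exact hx
  have hzQ : z ∉ Q := fun hc => hz1 (hVQ' z hz hc)
  refine h.alpha_a hN hu huV hVQ' fun w hw hwQ => ?_
  rcases h.mem_m0_or_of hu hQn hz hz1 hzQ hw hwQ with e1 | e1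
  · rcases hM w e1 with e2 | e2
    · exact Or.inl e2
    · exact absurd (e2 ▸ hwQ) hzQ
  · rcases hM _ e1 with e2 | e2
    · right
      calc w = w * u * u⁻¹ := by group
        _ = u := by rw [e2, one_mul]; exact inv_eq_self huu
    · exact absurd (e2 ▸ mul_mem hwQ huQ) hzQ

/-- (2.1) `[N ∩ W_p, N ∩ W_r] ≤ ⟨u⟩` if `V ≤ O₂(C_G(u))` -/
theorem nu_comm_of [Finite G] (h : One T V z) (hu : u ∈ ii V) (huV : u ∉ V)
    (hO : V ≤ o2 (centralizer ({u} : Set G))) {p r a b : G} (hp : p ∈ V) (hp1 : p ≠ 1) (hr : r ∈ V)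
    (hr1 : r ≠ 1) (hrp : r ≠ p) (ha : a ∈ nu u z) (ha' : a ∈ ws V p) (hb : b ∈ nu u z) (hb' : b ∈ ws V r) :
    a * b * a⁻¹ * b⁻¹ = 1 ∨ a * b * a⁻¹ * b⁻¹ = u := by
  have hle : nu u z ≤ o2 (centralizer ({u} : Set G)) := by
    refine (closure_le _).mpr ?_
    rintro _ ⟨c, hc, rfl⟩
    exact conj_mem_of_normalizer (le_normalizer_o2 _) hc (hO h.ln.z_mem)
  have hN2 : IsPGroup 2 (nu u z) := (isPGroup_o2 _).to_le hle
  set N := nu u z with hNdef
  set N' := ⁅N, N⁆ with hN'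
  have hNn : centralizer ({u} : Set G) ≤ normalizer (N : Set G) :=
    le_normalizer_of_forall fun c hc a ha => conj_mem_nu hc ha
  have hN'n : centralizer ({u} : Set G) ≤ normalizer (N' : Set G) := by
    refine le_normalizer_of_forall fun c hc a ha => ?_
    have hle : N' ≤ cj c⁻¹ N' := by
      rw [hN', commutator_le]
      intro x hx y hy
      rw [mem_cj, inv_inv]
      have e1 : c * ⁅x, y⁆ * c⁻¹ = ⁅c * x * c⁻¹, c * y * c⁻¹⁆ := by
        simp only [commutatorElement_def]; group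
      rw [e1]
      exact commutator_mem_commutator (conj_mem_nu hc hx) (conj_mem_nu hc hy)
    have := mem_cj.mp (hle ha)
    rwa [inv_inv] at this
  -- no point of `V` is in `N'`
  have hpt : ∀ v ∈ V, v ≠ 1 → v ∉ N' := by
    intro v hv hv1 hvN
    have hzN' : z ∈ N' := h.V_le_of_mem hu huV hN'n hv hv1 hvN h.ln.z_mem
    have hle : N ≤ N' := by
      refine (closure_le _).mpr ?_
      rintro _ ⟨c, hc, rfl⟩
      exact conj_mem_of_normalizer hN'n hc hzN'
    have : Fact (Nat.Prime 2) := ⟨Nat.prime_two⟩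
    have hnil : Group.IsNilpotent N := hN2.isNilpotent
    have hsol : Group.IsSolvable N := inferInstance
    have h1 : commutator N = ⊤ := by
      rw [eq_top_iff]
      intro x _
      have h2 : (x : G) ∈ ⁅N, N⁆ := hle x.2
      have h3 : (commutator N).map N.subtype = ⁅N, N⁆ := by
        rw [_root_.commutator_def, map_commutator, ← MonoidHom.range_eq_map, range_subtype]
      rw [← h3] at h2
      obtain ⟨x', hx', e1⟩ := h2
      have : x' = x := Subtype.ext e1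
      rwa [← this]
    have h4 : Subsingleton N := by
      by_contra hns
      rw [not_subsingleton_iff_nontrivial] at hns
      exact (Group.IsSolvable.commutator_lt_top_of_nontrivial N).ne h1
    have h5 : (⟨z, mem_nu_self u z⟩ : N) = 1 := Subsingleton.elim _ _
    exact h.ln.z_ne (congrArg Subtype.val h5)
  have hc1 : a * b * a⁻¹ * b⁻¹ ∈ N' := by
    have := commutator_mem_commutator ha hb
    rwa [commutatorElement_def] at this
  have hc2 : a * b * a⁻¹ * b⁻¹ ∈ ii V := by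
    have := h.comm_ii_mem hp hp1 hr hr1 ha' hb'
    rwa [commutatorElement_def] at this
  have hdis : ∀ {p : G}, p ∈ V → p ≠ 1 → a * b * a⁻¹ * b⁻¹ = 1 ∨ a * b * a⁻¹ * b⁻¹ = u ∨
      a * b * a⁻¹ * b⁻¹ = p * u := by
    intro p hp hp1
    rcases h.ii_inf_of hu hN'n hp hp1 (hpt p hp hp1) hc2 hc1 with e1 | e1 | e1 | e1
    · exact Or.inl e1
    · exact absurd (e1 ▸ hc1) (hpt p hp hp1)
    · exact Or.inr (Or.inl e1)
    · exact Or.inr (Or.inr e1)
  rcases hdis hp hp1 with e1 | e1 | e1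
  · exact Or.inl e1
  · exact Or.inr e1
  · rcases hdis hr hr1 with e2 | e2 | e2
    · exact Or.inl e2
    · exact Or.inr e2
    · rw [e1] at e2
      exact absurd (mul_right_cancel e2) (Ne.symm hrp)

/-- `q ∈ L ∩ N`, its twin `b ∈ W_y ∩ N`, and `[q, b] ∈ ⟨u⟩` -/
theorem twin_comm [Finite G] (h : One T V z) {L : Subgroup G} (hL : L ∈ lines V z) {y : G} (hy : y ∈ V)
    (hy1 : y ≠ 1) (hyz : y ≠ z) (hq : q ∈ L) (hq1 : q ≠ 1) (hu : u ∈ ii V) (huV : u ∉ V) (hu' : u ∈ ii L)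
    (huL : u ∉ L) (hO : V ≤ o2 (centralizer ({u} : Set G))) :
    ∃ b ∈ ws V y, Tw V z q y b ∧ (b * q * b⁻¹ = q ∨ b * q * b⁻¹ = u * q) := by
  have hz := h.ln.z_mem
  have hz1 := h.ln.z_ne
  obtain ⟨c, hLc, T', h'⟩ := h.of_line hL hz1
  have hqW : q ∈ ws V z := le_ws hL hq
  -- `q ∈ N`
  obtain ⟨g, -, hgu, hgq⟩ := h'.ftwo hu' huL hL.2 hz1 hq hq1
  have hqN : q ∈ nu u z := subset_closure ⟨g, mem_centralizer_singleton_iff.mpr hgu, hgq.symm⟩
  -- a mover which maps `z` to `y`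
  have hzy : z * y ∈ V := mul_mem hz hy
  have hzy1 : z * y ≠ 1 := h.mul_ne_one hy (Ne.symm hyz)
  have hzzy : z ≠ z * y := fun e => hy1 (by simpa using e.symm)
  obtain ⟨k, hk, hk1, hku⟩ := h.exists_mover_cent hu huV hzy hzy1
  have hkz : k * z * k⁻¹ = y := by
    have := h.move hzy hzy1 hz hz1 hzzy hk hk1
    rw [this, h.ln.comm hz hy, mul_assoc, h.ln.zz, mul_one]
  have hb : k * q * k⁻¹ ∈ ws V y := by
    have := conj_mem_ws k hqW
    rwa [hkz] at this
  have ht : Tw V z q y (k * q * k⁻¹) := by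
    have := h.tw_conj (kq_le_xl hzy hzy1 hk) z q
    rwa [hkz] at this
  have hbN : k * q * k⁻¹ ∈ nu u z := conj_mem_nu (mem_centralizer_singleton_iff.mpr hku) hqN
  refine ⟨_, hb, ht, ?_⟩
  have huq : u * q = q * u := h.ab u (hu z hz hz1) q hqW
  rcases h.nu_comm_of hu huV hO hy hy1 hz hz1 (Ne.symm hyz) hbN hb hqN hqW with e | e
  · left; exact mul_inv_eq_one.mp e
  · right; exact mul_inv_eq_iff_eq_mul.mp e

end grp

variable {T V : Subgroup G} {z : G} {M H : Type u} [AddCommGroup M] [Group H] [DistribMulAction H M]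
  (h : One T V z) (R : MRep V cg z M H) {y : G} (hy : y ∈ V) (hy1 : y ≠ 1) (hyz : y ≠ z)
include h hy hy1 hyz

/-- (1) of #18395 at `v₀` -/
theorem loc_alpha [Finite G] (hN : NT V) (hP : NP V z) (hD : dd V z ≤ ii V) {x : H} {v : M}
    (hx : x • R.pi y ≠ R.pi y) (hv : v ∈ i0 R) (hv' : x⁻¹ • v ∈ i0 R) (hv0 : v ≠ 0) :
    al0 R y (x • R.pi y) • (x • R.pi y) = x • R.pi y := by
  have hz := h.ln.z_mem
  have hz1 := h.ln.z_ne
  obtain ⟨f, hf, rfl⟩ := R.phi_surj x
  have hfz : f * z * f⁻¹ = z := conj_eq_of_comm (mem_centralizer_singleton_iff.mp hf)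
  have hyW := h.V_le hz hz1 hy
  obtain ⟨u, hu, rfl⟩ := (h.mem_i0 R).mp hv
  have huz : u ∈ ws V z := ii_le hz hz1 hu
  have hL : cj f V ∈ lines V z := by
    have := mem_lines_cj (g := f) (L := V) (V := V) (x := z) ⟨⟨1, (cj_one V).symm⟩, hz⟩
    rwa [hfz] at this
  set q := f * y * f⁻¹ with hq
  have hqL : q ∈ cj f V := conj_mem_cj hy
  have hq1 : q ≠ 1 := fun e => hy1 (conj_eq_one_iff.mp e)
  have hqW : q ∈ ws V z := le_ws hL hqL
  have hpq : R.phi f • R.pi y = R.pi q := h.rp_act R hf hyW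
  -- `u ∈ ii L`
  have hu' : u ∈ ii (cj f V) := by
    obtain ⟨u', hu', e⟩ := (h.mem_i0 R).mp hv'
    rw [← R.phi_inv hf, h.rp_act R (inv_mem hf) huz] at e
    have hfu : f⁻¹ * u * f⁻¹⁻¹ ∈ ws V z := by
      have h1 := conj_mem_ws f⁻¹ huz
      have e2 : f⁻¹ * z * f⁻¹⁻¹ = z := by
        rw [inv_inv]
        calc f⁻¹ * z * f = f⁻¹ * (f * z * f⁻¹) * f := by rw [hfz]
          _ = z := by group
      rwa [e2] at h1
    have h2 : f⁻¹ * u * f⁻¹⁻¹ ∈ ii V := by
      rcases (h.rp_eq R (ii_le hz hz1 hu') hfu).mp e with e1 | e1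
      · rw [← e1]; exact hu'
      · have h3 := mul_mem (inv_mem (h.V_le_ii hz)) hu'
        rwa [e1, inv_mul_cancel_left] at h3
    intro p hp hp1
    have h3 := h2 _ (mem_cj.mp hp) (conj_ne_one hp1)
    have h4 := conj_mem_ws f h3
    rw [ws_cj]
    have e1 : f * (f⁻¹ * u * f⁻¹⁻¹) * f⁻¹ = u := by group
    have e2 : f * (f⁻¹ * p * f) * f⁻¹ = p := by group
    rwa [e1, e2] at h4
  have hz0 : R.pi z = 0 := (h.rp_zero R (h.V_le hz hz1 hz)).mpr (Or.inr rfl)
  have hu1 : u ≠ 1 := fun e => hv0 (by rw [e, h.rp_one R])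
  obtain ⟨-, -, T', h'⟩ := h.of_line hL hz1
  have hqz : q ≠ z := fun e => hyz (by
    calc y = f⁻¹ * q * f := by rw [hq]; group
      _ = f⁻¹ * (f * z * f⁻¹) * f := by rw [e, hfz]
      _ = z := by group)
  -- a common point of `V` and `ii L` or of `L` and `ii V` gives `L = V`
  have hLV : cj f V ≠ V := by
    intro e
    apply hx
    rw [R.smul_v0_iff h.fam hy hy1 hyz hf, mem_normalizer_iff_cj, e]
  have huV : u ∉ V := by
    intro huV
    rcases h.third hz hz1 hy hy1 hyz huV hu1 with e | e | e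
    · exact hv0 (by rw [e, hz0])
    · -- `y ∈ ii L`: `V ≤ ii L`
      have h1 : R.pi y ∈ II R y (R.phi f • R.pi y) := by
        rw [h.mem_II R hy hy1 hyz (x := R.phi f) rfl]
        rwa [e] at hv'
      exact hx (h.in_LI R hy hy1 hyz hP (smul_mem_LL R y _ (self_mem_LL R y)) (self_mem_LL R y) h1).symm
    · have h1 : R.pi y ∈ II R y (R.phi f • R.pi y) := by
        rw [h.mem_II R hy hy1 hyz (x := R.phi f) rfl]
        rwa [e, h.rp_mul R (h.V_le hz hz1 hz) hyW, hz0, zero_add] at hv'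
      exact hx (h.in_LI R hy hy1 hyz hP (smul_mem_LL R y _ (self_mem_LL R y)) (self_mem_LL R y) h1).symm
  have huL : u ∉ cj f V := by
    intro huL
    rcases h'.third hL.2 hz1 hqL hq1 hqz huL hu1 with e | e | e
    · exact hv0 (by rw [e, hz0])
    · exact hLV (hP _ hL (h.line_le_ii hL hqL hq1 hqz (by rw [← e]; exact hu)))
    · refine hLV (hP _ hL (h.line_le_ii hL hqL hq1 hqz ?_))
      have h1 := mul_mem (inv_mem (h.V_le_ii hz)) hu
      rwa [e, inv_mul_cancel_left] at h1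
  obtain ⟨b, hb, ht, hbq⟩ := h.twin_comm hL hy hy1 hyz hqL hq1 hu huV hu' huL
    (h.alpha_m1 hN (fun w hw => h.m1_of_dd hN hD hw) hu huV)
  rw [hpq, h.al0_eq R hy hy1 hyz hqW hb ht, h.rp_act R (h.ws_le_cz hy hy1 hb) hqW]
  rcases hbq with e | e
  · rw [e]
  · exfalso
    -- `m + u` is a line vector in `I m`
    have h1 : R.phi b • R.pi q = R.pi u + R.pi q := by
      rw [h.rp_act R (h.ws_le_cz hy hy1 hb) hqW, e, h.rp_mul R huz hqW]
    have hm : R.phi f • R.pi y ∈ LL R y := smul_mem_LL R y _ (self_mem_LL R y)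
    have hm' : R.pi u + R.pi q ∈ LL R y := by
      rw [← h1, ← hpq]; exact smul_mem_LL R y _ hm
    have hI : R.pi u + R.pi q ∈ II R y (R.phi f • R.pi y) := by
      refine add_mem ?_ ?_
      · rw [h.mem_II R hy hy1 hyz (x := R.phi f) rfl]; exact hv'
      · rw [← hpq]; exact h.in_self R hy hy1 hyz hm
    have h2 := h.in_LI R hy hy1 hyz hP hm hm' hI
    rw [hpq] at h2
    exact hv0 (add_eq_right.mp h2)

/-- (1) of #18395 -/
theorem in_alpha [Finite G] (hN : NT V) (hP : NP V z) (hD : dd V z ≤ ii V) {l m u : M} (hl : l ∈ LL R y)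
    (hm : m ∈ LL R y) (hlm : l ≠ m) (hu : u ∈ II R y l) (hu' : u ∈ II R y m) (hu0 : u ≠ 0) :
    AL R y l m • m = m := by
  obtain ⟨g, hg⟩ := hl
  obtain ⟨k, hk⟩ := hm
  have hgk : (g⁻¹ * k) • R.pi y = g⁻¹ • m := by rw [mul_smul, ← hk]
  rw [h.mem_II R hy hy1 hyz hg] at hu
  rw [h.mem_II R hy hy1 hyz hk] at hu'
  have h1 := h.loc_alpha R hy hy1 hyz hN hP hD (x := g⁻¹ * k) (v := g⁻¹ • u) ?_ hu ?_ ?_
  · rw [hgk] at h1
    rw [h.AL_eq R hy hy1 hyz hg]
    have h2 := congrArg (fun w => g • w) h1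
    change g • (al0 R y (g⁻¹ • m) • g⁻¹ • m) = g • g⁻¹ • m at h2
    rw [smul_inv_smul] at h2
    rw [mul_smul, mul_smul]; exact h2
  · rw [hgk]
    intro e
    apply hlm
    have h2 := congrArg (fun w => g • w) e
    change g • g⁻¹ • m = g • R.pi y at h2
    rw [smul_inv_smul] at h2
    rw [h2]; exact hg.symm
  · have e : (g⁻¹ * k)⁻¹ • g⁻¹ • u = k⁻¹ • u := by
      rw [smul_smul]
      congr 1
      group
    rw [e]; exact hu'
  · intro e
    exact hu0 ((smul_eq_zero_iff_eq g⁻¹).mp e)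

/-- the record `Gen` -/
theorem gen [Finite G] (hN : NT V) (hP : NP V z) (h4 : 4 ≤ (ee V z).relIndex (ws V z)) :
    TI.Gen (LL R y) (AA R y) (II R y) (AL R y) where
  two := h.rp_two R
  zero := fun h0 => h.in_ne R hy hy1 hyz h0 rfl
  gen := h.in_gen R hy hy1 hyz
  smul := fun x _ hl => smul_mem_LL R y x hl
  trans := fun hl hm => trans_LL R y hl hm
  A_conj := fun _ _ _ hl ha => h.in_A_conj R hy hy1 hyz hl ha
  I_conj := fun x _ _ hl hu => h.in_I_conj R hy hy1 hyz hl x hu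
  sq := fun hl ha => h.in_sq R hy hy1 hyz hl ha
  four := fun hl => by rw [h.in_card R hy hy1 hyz hl]; exact h4
  self := fun hl => h.in_self R hy hy1 hyz hl
  comm := fun hl ha m => h.in_comm R hy hy1 hyz hl ha m
  fix := fun hl ha hu => h.in_fix R hy hy1 hyz hl ha hu
  LI := fun hl hm hml => h.in_LI R hy hy1 hyz hP hl hm hml
  al_mem := fun hl m => h.in_al_mem R hy hy1 hyz hl m
  al_add := fun hl m m' => h.in_al_add R hy hy1 hyz hl m m'
  al_surj := fun hl ha => h.in_al_surj R hy hy1 hyz hl ha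
  al_conj := fun {l x} hl hx m => by
    have := h.in_al_conj R hy hy1 hyz hl x m
    rwa [hx] at this
  al_ker := fun hl m => h.in_al_ker R hy hy1 hyz hN hl m
  sy := fun hl m m' => h.in_sy R hy hy1 hyz hl m m'
  phi := fun hl ha ha1 => h.in_phi R hy hy1 hyz hN hl ha ha1

/-- the record `TI` -/
theorem ti [Finite G] (hN : NT V) (hP : NP V z) (hD : dd V z ≤ ii V) (h4 : 4 ≤ (ee V z).relIndex (ws V z)) :
    TI.TI (LL R y) (AA R y) (II R y) (AL R y) where
  toGen := h.gen R hy hy1 hyz hN hP h4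
  fixI := fun hl hu => h.in_D R hy hy1 hyz hN hD hl hu
  Kt := fun {l u} hl hu hu0 hul => by
    obtain ⟨c, h1, h2, -, -, h3⟩ := h.in_Kt R hy hy1 hyz hl hu hu0 hul
    exact ⟨c, h1, h2, fun e he => h.in_D R hy hy1 hyz hN hD hl (h3 e he)⟩
  alpha := fun hl hm hlm hu hu' hu0 => h.in_alpha R hy hy1 hyz hN hP hD hl hm hlm hu hu' hu0

omit hy hy1 hyz in
/-- **#18395** : `|A| ≥ 4`, no `λ`-transvections, no plane, `D_z = I` is impossible. -/
theorem np_dd_false [Finite G] (hN : NT V) (hP : NP V z) (hD : dd V z ≤ ii V)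
    (h4 : 4 ≤ (ee V z).relIndex (ws V z)) : False := by
  obtain ⟨y, hy, hy1, hyz⟩ := h.ln.exists_y
  obtain ⟨M, H, iM, fM, iH, fH, iA, -, ⟨R⟩⟩ := h.fam.exists_mrep
  exact (h.ti R hy hy1 hyz hN hP hD h4).false ⟨_, self_mem_LL R y⟩

end One

end Cfsg.Agent.Omega.NO3S.TwoOne
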