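import Cfsg.Agent.Omega.NO3S.TwoOne.TI.Base

/-!
# NO-3S, `TwoOne` / `CompP`: `k ≥ 2`, `D_x = I`, no plane is impossible (bb OMEGA #18395, helper541), pure form

* `Gen.sum_mem_of_part` helpers, `TI` : the record, `TI.false` : the theorem
-/

set_option autoImplicit false
set_option linter.unusedSimpArgs false
set_option linter.dupNamespace false
set_option linter.unusedSectionVars false

namespace Cfsg.Agent.Omega.NO3S.TwoOne.TI

/-- the record of #18395: `Gen` with `C_M(A l) = I l` -/
structure TI {M H : Type*} [AddCommGroup M] [Group H] [DistribMulAction H M] (L : Set M) (A : M → Subgroup H)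
    (I : M → AddSubgroup M) (al : M → M → H) : Prop extends Gen L A I al where
  /-- `D_x = I` -/
  fixI : ∀ {l u : M}, l ∈ L → (∀ a ∈ A l, a • u = u) → u ∈ I l
  /-- the group `K~_l` -/
  Kt : ∀ {l u : M}, l ∈ L → u ∈ I l → u ≠ 0 → u ≠ l →
    ∃ c : H, c • l = l ∧ c • u = u + l ∧ ∀ e, al l e = 1 → c • e + e ∈ I l
  /-- `(1)`: ALPHA + (2.1) + no plane -/
  alpha : ∀ {l m u : M}, l ∈ L → m ∈ L → l ≠ m → u ∈ I l → u ∈ I m → u ≠ 0 → al l m • m = m

namespace TI

variable {M H : Type*} [AddCommGroup M] [Group H] [DistribMulAction H M] [Finite M] [Finite H] {L : Set M}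
    {A : M → Subgroup H} {I : M → AddSubgroup M} {al : M → M → H}

variable (G : TI L A I al)
include G

theorem exists_move_self {l m : M} (hl : l ∈ L) (hm : m ∈ L) (hlm : l ≠ m) : ∃ a ∈ A l, a • m ≠ m := by
  by_contra hcon
  push Not at hcon
  exact hlm (G.LI hl hm (G.fixI hl hcon)).symm

/-- intersecting pairs are partial -/
theorem part_of_inter {l m u : M} (hl : l ∈ L) (hm : m ∈ L) (hlm : l ≠ m) (hu : u ∈ I l) (hu' : u ∈ I m)
    (hu0 : u ≠ 0) : ∃ b ∈ A l, b ≠ 1 ∧ b • m = m := by
  have h1 := G.alpha hl hm hlm hu hu' hu0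
  by_cases h2 : al l m = 1
  · exact G.exists_kill hl ((G.al_ker hl m).1 h2)
  · exact ⟨_, G.al_mem hl m, h2, h1⟩

/-- (3d) -/
theorem d3 {l m : M} {b₀ : H} (hl : l ∈ L) (hm : m ∈ L) (hlm : l ≠ m) (hb₀ : b₀ ∈ A l) (hb1 : b₀ ≠ 1)
    (hbm : b₀ • m = m) : al l m = 1 ∧ (∀ a ∈ A l, a • m ≠ m → a • m = m + l) ∧
      ∀ a' ∈ A m, a' • l ≠ l → a' • l = l + m := by
  have two := G.two
  have tl := G.two_left
  have hex := G.exists_move_self hl hm hlm
  obtain ⟨c, hc, e1, e2⟩ := G.b3 hl hm hlm hex hb₀ hb1 hbm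
  obtain ⟨a₁, ha₁, ham₁⟩ := hex
  by_cases hc0 : c = 0
  · subst hc0
    have e3 : ∀ a ∈ A l, a • m ≠ m → a • m = m + l := fun a ha ham => by rw [e2 a ha ham, add_zero]
    refine ⟨(G.al_ker hl m).2 fun a ha => ?_, e3, fun a' ha' hal => by rw [e1 a' ha' hal, add_zero]⟩
    by_cases h : a • m = m
    · exact Or.inl h
    · exact Or.inr (e3 a ha h)
  · exfalso
    have h1 := G.alpha hl hm hlm hc.1 hc.2 hc0
    obtain ⟨m₁, hm₁⟩ := G.al_surj hl ha₁
    have h2 := G.sy hl m m₁
    rw [hm₁, e2 a₁ ha₁ ham₁] at h2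
    have h3 : al l m = 1 := by
      refine G.c3 hl hm hlm (G.al_mem hl m) h1 (by rw [hm₁]; exact ham₁) ⟨c, hc, ?_⟩
      rcases h2 with h2 | h2
      · right
        calc al l m • m₁ + m₁ = (m + l + c + m + (al l m • m₁ + m₁)) + (c + l) := by
              simp only [add_assoc, add_comm, add_left_comm, two, tl, add_zero]
          _ = c + l := by rw [h2, zero_add]
      · left
        calc al l m • m₁ + m₁ = (m + l + c + m + (al l m • m₁ + m₁)) + (c + l) := by
              simp only [add_assoc, add_comm, add_left_comm, two, tl, add_zero]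
          _ = c := by rw [h2]; simp only [add_comm, add_left_comm, two, tl, add_zero]
    have h4 := (G.al_ker hl m).1 h3 a₁ ha₁
    rcases h4 with h4 | h4
    · exact ham₁ h4
    · have h5 := e2 a₁ ha₁ ham₁
      rw [h4] at h5
      have h6 : c = 0 := by
        have : m + l + 0 = m + l + c := by rw [add_zero]; exact h5
        exact (add_left_cancel this).symm
      exact hc0 h6

/-- partial pairs: `l + m ∈ L` -/
theorem sum_part {l m : M} {b₀ : H} (hl : l ∈ L) (hm : m ∈ L) (hlm : l ≠ m) (hb₀ : b₀ ∈ A l) (hb1 : b₀ ≠ 1)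
    (hbm : b₀ • m = m) : l + m ∈ L ∧ ∀ u ∈ I l, u ∈ I m → u ∈ I (l + m) := by
  obtain ⟨-, h, -⟩ := G.d3 hl hm hlm hb₀ hb1 hbm
  obtain ⟨a, ha, ham⟩ := G.exists_move_self hl hm hlm
  have e : a • m = l + m := by rw [h a ha ham, add_comm]
  refine ⟨e ▸ G.smul a hm, fun u hu hu' => ?_⟩
  have := G.I_conj a hm hu'
  rwa [e, G.fix hl ha hu] at this

/-- (4) -/
theorem inter_zero {l m u : M} (hl : l ∈ L) (hm : m ∈ L) (hlm : l ≠ m) (hu : u ∈ I l) (hu' : u ∈ I m) : u = 0 := by
  have two := G.two
  have tl := G.two_left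
  by_contra hu0
  obtain ⟨b₀, hb₀, hb1, hbm⟩ := G.part_of_inter hl hm hlm hu hu' hu0
  have hum : u ≠ m := by
    rintro rfl
    exact hlm (G.LI hl hm hu).symm
  obtain ⟨c, hcm, hcu, hcE⟩ := G.Kt hm hu' hu0 hum
  obtain ⟨u₁, hu₁⟩ : ∃ u₁, u₁ = u + m := ⟨_, rfl⟩
  obtain ⟨q, hq⟩ : ∃ q, q = c • l := ⟨_, rfl⟩
  have hqL : q ∈ L := hq ▸ G.smul c hl
  have hu₁q : u₁ ∈ I q := by
    have := G.I_conj c hl hu
    rwa [hcu, ← hu₁, ← hq] at this
  have hu₁m : u₁ ∈ I m := hu₁ ▸ add_mem hu' (G.self hm)
  have hu₁l : u₁ ∉ I l := by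
    intro h
    apply hlm
    refine (G.LI hl hm ?_).symm
    have : m = u + u₁ := by rw [hu₁, tl]
    rw [this]
    exact add_mem hu h
  have hu₁0 : u₁ ≠ 0 := by
    intro h
    exact hu₁l (h ▸ zero_mem _)
  have hql : q ≠ l := by
    rintro rfl
    exact hu₁l hu₁q
  have hbu₁ : b₀ • u₁ = u₁ := by rw [hu₁, smul_add, hbm, G.fix hl hb₀ hu]
  -- `b₀` fixes `q`
  have hbq : b₀ • q = q := by
    by_contra hne
    have h1 : b₀ • q ∈ L := G.smul b₀ hqL
    have h2 : u₁ ∈ I (b₀ • q) := by
      have := G.I_conj b₀ hqL hu₁q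
      rwa [hbu₁] at this
    obtain ⟨b₁, hb₁, hb₁1, hb₁q⟩ := G.part_of_inter h1 hqL hne h2 hu₁q hu₁0
    obtain ⟨h3, h4⟩ := G.sum_part h1 hqL hne hb₁ hb₁1 hb₁q
    have h5 : b₀ • q + q ∈ I l := G.comm hl hb₀ q
    have h6 : b₀ • q + q = l := G.LI hl h3 h5
    exact hu₁l (h6 ▸ h4 u₁ h2 hu₁q)
  obtain ⟨h7, -⟩ := G.sum_part hl hqL (Ne.symm hql) hb₀ hb1 hbq
  -- `l ∈ E m`
  obtain ⟨-, -, h8⟩ := G.d3 hl hm hlm hb₀ hb1 hbm
  obtain ⟨a', ha', hal⟩ := G.exists_move_self hm hl (Ne.symm hlm)
  have h9 : a' • l = l + m := h8 a' ha' hal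
  have h10 : al m l = 1 := by
    rw [G.al_ker hm]
    intro x hx
    by_cases h : x • l = l
    · exact Or.inl h
    · exact Or.inr (h8 x hx h)
  have h11 : l + q ∈ I m := by
    rw [hq, add_comm]
    exact hcE l h10
  have h12 : l + q = m := G.LI hm h7 h11
  have h13 : q = a' • l := by
    rw [h9, ← h12, tl]
  have h14 : u₁ ∈ I l := by
    have h15 : u₁ ∈ I (a' • l) := h13 ▸ hu₁q
    have h16 := G.I_conj a' (G.smul a' hl) h15
    rw [← mul_smul, G.sq hm ha', one_smul, G.fix hm ha' hu₁m] at h16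
    exact h16
  exact hu₁l h14

/-- `|I l| ≤ |A l|` -/
theorem card_le {l : M} (hl : l ∈ L) : Nat.card (I l) ≤ Nat.card (A l) := by
  have two := G.two
  have tl := G.two_left
  by_cases hex : ∃ l ∈ L, ∃ m ∈ L, l ≠ m ∧ ∃ b ∈ A l, b ≠ 1 ∧ b • m = m
  · obtain ⟨p, hp, m, hm, hpm, b₀, hb₀, hb1, hbm⟩ := hex
    refine (G.card_I hl hm).trans (le_trans ?_ (G.card_A hp hl))
    obtain ⟨b', hb', hb'1, hb'l⟩ := G.part_symm hp hm hb₀ hb1 hbm
    obtain ⟨a₁, ha₁, ham₁⟩ := G.exists_move_self hp hm hpm
    have hal : ∀ i ∈ I m, al p i • m = m := fun i hi => G.al_I hp hm hb' hb'1 hb'l hi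
    -- `B`-elements centralise `I m`
    have hB : ∀ b ∈ A p, b • m = m → ∀ i ∈ I m, b • i = i := by
      intro b hb hbm' i hi
      have h1 : b • i + i ∈ I p := G.comm hp hb i
      have h2 : b • i + i ∈ I m := add_mem (G.I_conj' hm hi hbm') hi
      have h3 := G.inter_zero hp hm hpm h1 h2
      calc b • i = (b • i + i) + i := by rw [add_assoc, two, add_zero]
        _ = i := by rw [h3, zero_add]
    -- the injection `I m → A p`: `i ↦ al p i` or `al p i * a₁`
    classical
    have hker : ∀ i ∈ I m, al p i = 1 → a₁ • i = i → i = 0 := by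
      intro i hi h1 h2
      refine G.inter_zero hp hm hpm (G.fixI hp fun a ha => ?_) hi
      by_cases h3 : a • m = m
      · exact hB a ha h3 i hi
      · have h4 : (a * a₁) • m = m := G.index_two hp hm hpm ha h3 ha₁ ham₁ hb₀ hb1 hbm
        have h5 := hB _ (mul_mem ha ha₁) h4 i hi
        rwa [mul_smul, h2] at h5
    have hEx : ∀ b : H, ∃ r : M, (∃ i ∈ I m, al p i = b) → r ∈ I m ∧ al p r = b := by
      intro b
      by_cases h : ∃ i ∈ I m, al p i = b
      · obtain ⟨i, hi, hi'⟩ := h
        exact ⟨i, fun _ => ⟨hi, hi'⟩⟩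
      · exact ⟨0, fun h' => absurd h' h⟩
    choose r hr using hEx
    have hr' : ∀ i ∈ I m, r (al p i) ∈ I m ∧ al p (r (al p i)) = al p i := fun i hi => hr _ ⟨i, hi, rfl⟩
    have hx : ∀ i ∈ I m, al p (i + r (al p i)) = 1 := fun i hi => by
      rw [G.al_add hp, (hr' i hi).2, G.sq hp (G.al_mem hp i)]
    have same : ∀ i ∈ I m, ∀ j ∈ I m, al p i = al p j →
        (a₁ • (i + r (al p i)) = i + r (al p i) ↔ a₁ • (j + r (al p j)) = j + r (al p j)) → i = j := by
      intro i hi j hj hij hiff
      have hsum : i + j = 0 := by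
        have h1 : al p (i + j) = 1 := by rw [G.al_add hp, hij, G.sq hp (G.al_mem hp j)]
        refine hker _ (add_mem hi hj) h1 ?_
        by_cases h : a₁ • (i + r (al p i)) = i + r (al p i)
        · have h' := hiff.1 h
          calc a₁ • (i + j) = a₁ • ((i + r (al p i)) + (j + r (al p j))) := by
                rw [hij]; congr 1
                simp only [add_assoc, add_comm, add_left_comm, two, tl, add_zero]
            _ = (i + r (al p i)) + (j + r (al p j)) := by rw [smul_add, h, h']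
            _ = i + j := by
                rw [hij]
                simp only [add_assoc, add_comm, add_left_comm, two, tl, add_zero]
        · have h' : ¬ a₁ • (j + r (al p j)) = j + r (al p j) := fun h' => h (hiff.2 h')
          have e1 := ((G.al_ker hp _).1 (hx i hi) a₁ ha₁).resolve_left h
          have e2 := ((G.al_ker hp _).1 (hx j hj) a₁ ha₁).resolve_left h'
          calc a₁ • (i + j) = a₁ • ((i + r (al p i)) + (j + r (al p j))) := by
                rw [hij]; congr 1
                simp only [add_assoc, add_comm, add_left_comm, two, tl, add_zero]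
            _ = ((i + r (al p i)) + p) + ((j + r (al p j)) + p) := by rw [smul_add, e1, e2]
            _ = i + j := by
                rw [hij]
                simp only [add_assoc, add_comm, add_left_comm, two, tl, add_zero]
      calc i = i + j + j := by rw [add_assoc, two, add_zero]
        _ = j := by rw [hsum, zero_add]
    refine Nat.card_le_card_of_injective (fun i : I m => (⟨if a₁ • ((i : M) + r (al p i)) = (i : M) + r (al p i)
      then al p i else al p i * a₁, ?_⟩ : A p)) ?_
    · split_ifs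
      · exact G.al_mem hp i
      · exact mul_mem (G.al_mem hp i) ha₁
    · rintro ⟨i, hi⟩ ⟨j, hj⟩ hij
      apply Subtype.ext
      have hij' := congrArg Subtype.val hij
      simp only at hij'
      have hno : ∀ x ∈ I m, ∀ y ∈ I m, al p x ≠ al p y * a₁ := by
        intro x hx y hy h
        apply ham₁
        have h1 : a₁ = al p y * al p x := by
          rw [h, ← mul_assoc, G.sq hp (G.al_mem hp y), one_mul]
        rw [h1, mul_smul, hal x hx, hal y hy]
      by_cases h1 : a₁ • (i + r (al p i)) = i + r (al p i)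
      · by_cases h2 : a₁ • (j + r (al p j)) = j + r (al p j)
        · rw [if_pos h1, if_pos h2] at hij'
          exact same i hi j hj hij' ⟨fun _ => h2, fun _ => h1⟩
        · rw [if_pos h1, if_neg h2] at hij'
          exact absurd hij' (hno i hi j hj)
      · by_cases h2 : a₁ • (j + r (al p j)) = j + r (al p j)
        · rw [if_neg h1, if_pos h2] at hij'
          exact absurd hij'.symm (hno j hj i hi)
        · rw [if_neg h1, if_neg h2] at hij'
          exact same i hi j hj (mul_right_cancel hij') ⟨fun h => absurd h h1, fun h => absurd h h2⟩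
  · push Not at hex
    -- no partial pairs
    obtain ⟨m, hm, hlm⟩ : ∃ m ∈ L, l ≠ m := by
      by_contra hcon
      push Not at hcon
      obtain ⟨a, ha, ha1⟩ := G.exists_ne hl
      obtain ⟨x, hx⟩ := G.al_surj hl ha
      apply ha1
      rw [← hx]
      have hx' : x ∈ AddSubgroup.closure L := by rw [G.gen]; trivial
      have h0 : al l 0 = 1 := by
        have := G.al_add hl 0 0
        rw [add_zero] at this
        exact (mul_eq_left.1 this.symm)
      refine AddSubgroup.closure_induction (p := fun x _ => al l x = 1) ?_ h0 ?_ ?_ hx'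
      · intro y hy
        rw [← hcon y hy]
        exact G.al_I_one hl (G.self hl)
      · intro y z _ _ h1 h2
        rw [G.al_add hl, h1, h2, one_mul]
      · intro y _ h1
        have : -y = y := neg_eq_of_add_eq_zero_left (two y)
        rw [this, h1]
    refine (Nat.card_le_card_of_injective (fun i : I l => (⟨al m i, G.al_mem hm i⟩ : A m)) ?_).trans
      (G.card_A hm hl)
    rintro ⟨i, hi⟩ ⟨j, hj⟩ hij
    apply Subtype.ext
    have hij' : al m i = al m j := congrArg Subtype.val hij
    have h1 : al m (i + j) = 1 := by rw [G.al_add hm, hij', G.sq hm (G.al_mem hm j)]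
    obtain ⟨a, ha, ha1, hax⟩ := G.exists_kill hm ((G.al_ker hm _).1 h1)
    have h2 : i + j = 0 := by
      by_contra h0
      have h3 : i + j ∈ I (a • l) := by
        have := G.I_conj a hl (add_mem hi hj)
        rwa [hax] at this
      have h4 : l ≠ a • l := fun h => hex m hm l hl (Ne.symm hlm) a ha ha1 h.symm
      obtain ⟨b, hb, hb1, hbm⟩ := G.part_of_inter hl (G.smul a hl) h4 (add_mem hi hj) h3 h0
      exact hex l hl _ (G.smul a hl) h4 b hb hb1 hbm
    change i = j
    calc i = i + j + j := by rw [add_assoc, two, add_zero]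
      _ = j := by rw [h2, zero_add]

/-- all sums of different line vectors are line vectors -/
theorem sum_mem {l m : M} (hl : l ∈ L) (hm : m ∈ L) (hlm : l ≠ m) : l + m ∈ L := by
  have two := G.two
  by_cases hex : ∃ b ∈ A l, b ≠ 1 ∧ b • m = m
  · obtain ⟨b, hb, hb1, hbm⟩ := hex
    exact (G.sum_part hl hm hlm hb hb1 hbm).1
  · have hop : ∀ a ∈ A m, a • l = l → a = 1 := by
      intro a ha hal
      by_contra h1
      obtain ⟨b, hb, hb1, hbm⟩ := G.part_symm hm hl ha h1 hal
      exact hex ⟨b, hb, hb1, hbm⟩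
    let f : A m → I m := fun a => ⟨(a : H) • l + l, G.comm hm a.2 l⟩
    have hf : Function.Injective f := by
      rintro ⟨a, ha⟩ ⟨b, hb⟩ hab
      apply Subtype.ext
      have h1 : a • l + l = b • l + l := congrArg Subtype.val hab
      have h2 : a • l = b • l := add_right_cancel h1
      have h3 : (b * a) • l = l := by rw [mul_smul, h2, ← mul_smul, G.sq hm hb, one_smul]
      have h4 := hop _ (mul_mem hb ha) h3
      have h5 := inv_eq_of_mul_eq_one_right h4
      change a = b
      rw [← h5, G.inv hm hb]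
    obtain ⟨⟨a, ha⟩, hx⟩ := (hf.bijective_of_nat_card_le (G.card_le hm)).2 ⟨m, G.self hm⟩
    have h1 : a • l + l = m := congrArg Subtype.val hx
    have h2 : l + m = a • l := by rw [← h1, add_comm, add_assoc, two, add_zero]
    rw [h2]
    exact G.smul a hl

/-- **`k ≥ 2`, `D_x = I`, no plane is impossible** -/
theorem false (hL : L.Nonempty) : False := by
  have two := G.two
  have hall : ∀ x : M, x ∈ L ∨ x = 0 := by
    intro x
    have hx' : x ∈ AddSubgroup.closure L := by rw [G.gen]; trivial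
    refine AddSubgroup.closure_induction (p := fun x _ => x ∈ L ∨ x = 0) (fun y hy => Or.inl hy)
      (Or.inr rfl) ?_ ?_ hx'
    · rintro y z _ _ (h1 | h1) (h2 | h2)
      · by_cases h : y = z
        · right; rw [h, two]
        · left; exact G.sum_mem h1 h2 h
      · left; rw [h2, add_zero]; exact h1
      · left; rw [h1, zero_add]; exact h2
      · right; rw [h1, h2, add_zero]
    · intro y _ h1
      have : -y = y := neg_eq_of_add_eq_zero_left (two y)
      rwa [this]
  obtain ⟨l, hl⟩ := hL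
  obtain ⟨a, ha, ha1⟩ := G.exists_ne hl
  obtain ⟨m₁, hm₁⟩ := G.al_surj hl ha
  have h1 : ∀ m, a • m + m = 0 ∨ a • m + m = l := by
    intro m
    rcases hall (a • m + m) with h | h
    · exact Or.inr (G.LI hl h (G.comm hl ha m))
    · exact Or.inl h
  apply ha1
  rw [← hm₁, G.al_ker hl]
  intro a' ha'
  obtain ⟨m', hm'⟩ := G.al_surj hl ha'
  have h2 := G.sy hl m₁ m'
  rw [hm₁, hm'] at h2
  have h3 : a' • m₁ + m₁ = 0 ∨ a' • m₁ + m₁ = l := by
    rcases h2 with h2 | h2 <;> rcases h1 m' with h | h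
    · left; rwa [h, add_zero] at h2
    · right
      rw [h] at h2
      calc a' • m₁ + m₁ = (a' • m₁ + m₁ + l) + l := by rw [add_assoc _ l l, two, add_zero]
        _ = l := by rw [h2, zero_add]
    · right; rwa [h, add_zero] at h2
    · left
      rw [h] at h2
      calc a' • m₁ + m₁ = (a' • m₁ + m₁ + l) + l := by rw [add_assoc _ l l, two, add_zero]
        _ = 0 := by rw [h2, two]
  rcases h3 with h3 | h3
  · left
    calc a' • m₁ = (a' • m₁ + m₁) + m₁ := by rw [add_assoc, two, add_zero]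
      _ = m₁ := by rw [h3, zero_add]
  · right
    calc a' • m₁ = (a' • m₁ + m₁) + m₁ := by rw [add_assoc, two, add_zero]
      _ = m₁ + l := by rw [h3, add_comm]

end TI

end Cfsg.Agent.Omega.NO3S.TwoOne.TI
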